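import Cfsg.Agent.H167.RM.Tor
import Cfsg.Agent.H571.RM.RowS

/-!
# S3849: `RowM` from `ToralB` (helper167)
-/

set_option autoImplicit false

namespace Cfsg.Agent.H167.RM

open Subgroup Cfsg Cfsg.Agent.H571.RV Cfsg.Agent.H571.RM

universe u

variable {S : Type u} [Group S] [Finite S] {π : Set ℕ} {r p : ℕ} {H A : Subgroup S}

/-- **`RowM` from a toral `r`-subgroup controlling the groups it normalises.** -/
theorem rowM_of_toralB [IsSimpleGroup S] (hna : ∃ a b : S, a * b ≠ b * a) (h2 : 2 ∉ π) (hpπ : p ∉ π)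
    (d : HA π r H A) (hrπ : r ∈ π) (h : ToralB r p S) : RowM π S := by
  obtain ⟨B, hB, hB1, hcen⟩ := h.cen
  refine rowM_of_cen hna d hrπ (MonoidHom.id S) Function.surjective_id ?_ ?_ hB ?_ ?_
  · rw [MonoidHom.ker_id]
    exact bot_le
  · rw [MonoidHom.ker_id, Subgroup.card_bot]
    exact Nat.coprime_one_right _
  · by_contra hcon
    push Not at hcon
    exact hB1 ((eq_bot_iff_forall B).2 hcon)
  · intro A' hab hπ hr hn b hb a ha
    refine hcen A' hab (fun t ht htA => ⟨?_, ?_, ?_⟩) hn b hb a ha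
    · rintro rfl
      exact h2 (hπ 2 ht htA)
    · rintro rfl
      exact hr htA
    · rintro rfl
      exact hpπ (hπ t ht htA)

end Cfsg.Agent.H167.RM
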