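import Cfsg.Agent.H167.RV.TorE
import Cfsg.Agent.H167.RV.ChkSF4

/-!
# S3849: toral `s`-subgroups controlling the groups they normalise, exceptional groups (helper167)

`ToralB s p G` : an `s`-subgroup `Y ≠ 1` in a commutative subgroup `T₀` of `G` such that all `t`-subgroups of `G`
normalised by `Y` lie in `T₀`, `t ≠ 2, s, p`. `ToralB.cen` : `Y` centralises the abelian subgroups of order prime to
`2 s p` which it normalises.
-/

set_option autoImplicit false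
set_option linter.unusedSectionVars false

namespace Cfsg.Agent.H167.RM

open CoxeterSystem Cfsg Cfsg.Lie Cfsg.Lie.ChevalleyDatum
open Cfsg.Agent.ChevalleyStructure Cfsg.Agent.ChevalleyStructure.Elts Cfsg.Agent.ChevalleyStructure.CoxeterGeom
  Cfsg.Agent.ChevalleyStructure.CoxeterGeomTypes Cfsg.Agent.ChevalleyStructure.NPerm
open Cfsg.Agent.Tits.Roots Cfsg.Agent.Tits.Core Cfsg.Agent.Nodes Cfsg.Agent.Nodes.Reps Cfsg.Agent.Nodes.BNOf
  Cfsg.Agent.Nodes.RGDChev Cfsg.Agent.Nodes.Bruhat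
open Cfsg.Agent.KFacts.RgdField Cfsg.Agent.KFacts.RgdChevCoord Cfsg.Agent.BpExc.TorCent Cfsg.Agent.BpExc.TorChev
open Cfsg.Agent.GpExc.Field Cfsg.Agent.BpExc.Tow Cfsg.Agent.BpExc.TowChev Cfsg.Agent.BpExc.Fr
  Cfsg.Agent.BpExc.LangFr Cfsg.Agent.H129.TorusChar Cfsg.Agent.H129.TorusMain Cfsg.Agent.H123.ExcZ
open Cfsg.Agent.BpExc Cfsg.Agent.H795.LangT Cfsg.Agent.H795.Core Cfsg.Agent.H795.NotAbT
open Cfsg.Agent.H572.ExcA Cfsg.Agent.H572.ExcB Cfsg.Agent.H572.ExcC Cfsg.Agent.H572.ExcD Cfsg.Agent.H572.LatQ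
  Cfsg.Agent.H572.LatForm Cfsg.Agent.H572.ExcE Cfsg.Agent.H572.ExcF
open Cfsg.Agent.H565.CharCnt Cfsg.Agent.H167.RV
open Cfsg.Agent.BpExc.RowsUntw Cfsg.Agent.H720.TwFr Cfsg.Agent.H795.NotAbRows
open Cfsg.Agent.H574.ExcE8Five (th th_mat dot dot_apply cvec dot_cvec_th fv gv)
open Subgroup

universe u v

/-- toral `s`-subgroups controlling the groups they normalise -/
def ToralB (s p : ℕ) (G : Type*) [Group G] : Prop :=
  ∃ T₀ Y : Subgroup G, (∀ a ∈ T₀, ∀ b ∈ T₀, a * b = b * a) ∧ Y ≤ T₀ ∧ Y ≠ ⊥ ∧ IsPGroup s Y ∧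
    ∀ t, t.Prime → t ≠ 2 → t ≠ s → t ≠ p → ∀ R : Subgroup G, IsPGroup t R → (∀ y ∈ Y, ∀ x ∈ R, y * x * y⁻¹ ∈ R) →
      R ≤ T₀

theorem ToralB.of_equiv {s p : ℕ} {G : Type u} [Group G] {G' : Type v} [Group G'] (e : G ≃* G')
    (h : ToralB s p G') : ToralB s p G := by
  obtain ⟨T₀, Y, h1, h2, h3, h4, h5⟩ := h
  refine ⟨T₀.comap e.toMonoidHom, Y.comap e.toMonoidHom, ?_, Subgroup.comap_mono h2, ?_, ?_, ?_⟩
  · intro a ha b hb
    apply e.injective
    rw [map_mul, map_mul]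
    exact h1 _ ha _ hb
  · intro h
    apply h3
    rw [eq_bot_iff]
    intro y hy
    have h6 : e.symm y ∈ Y.comap e.toMonoidHom := by
      show e (e.symm y) ∈ Y
      rw [e.apply_symm_apply]
      exact hy
    rw [h, mem_bot] at h6
    rw [mem_bot, ← e.apply_symm_apply y, h6, map_one]
  · exact h4.comap_of_injective e.toMonoidHom e.injective
  · intro t ht ht2 hts htp R hR hn x hx
    refine h5 t ht ht2 hts htp (R.map e.toMonoidHom) (hR.map _) ?_ ⟨x, hx, rfl⟩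
    rintro y hy _ ⟨z, hz, rfl⟩
    have h6 : e.symm y ∈ Y.comap e.toMonoidHom := by
      show e (e.symm y) ∈ Y
      rw [e.apply_symm_apply]
      exact hy
    refine ⟨_, hn _ h6 z hz, ?_⟩
    show e (e.symm y * z * (e.symm y)⁻¹) = y * e z * y⁻¹
    rw [map_mul, map_mul, map_inv, e.apply_symm_apply]

/-- **`Y` centralises the abelian subgroups of order prime to `2 s p` which it normalises.** -/
theorem ToralB.cen {s p : ℕ} {G : Type u} [Group G] [Finite G] (h : ToralB s p G) :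
    ∃ B : Subgroup G, IsPGroup s B ∧ B ≠ ⊥ ∧ ∀ A : Subgroup G, (∀ a ∈ A, ∀ b ∈ A, a * b = b * a) →
      (∀ t, t.Prime → t ∣ Nat.card A → t ≠ 2 ∧ t ≠ s ∧ t ≠ p) → B ≤ normalizer (A : Set G) →
      ∀ b ∈ B, ∀ a ∈ A, b * a = a * b := by
  obtain ⟨T₀, Y, h1, h2, h3, h4, h5⟩ := h
  refine ⟨Y, h4, h3, fun A hab hAt hn b hb a ha => ?_⟩
  have hAT : A ≤ T₀ := by
    have h6 : (T₀.subgroupOf A).index = 1 := by
      rw [Nat.eq_one_iff_not_exists_prime_dvd]
      intro t ht hdvd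
      have hft : Fact t.Prime := ⟨ht⟩
      have htA : t ∣ Nat.card A := hdvd.trans (Subgroup.index_dvd_card _)
      obtain ⟨ht2, hts, htp⟩ := hAt t ht htA
      -- the `t`-part of `A`
      let R : Subgroup G :=
        { carrier := {x | x ∈ A ∧ ∃ n, x ^ t ^ n = 1}
          one_mem' := ⟨one_mem _, 0, one_pow _⟩
          mul_mem' := by
            rintro x y ⟨hx, n, hxn⟩ ⟨hy, m, hym⟩
            refine ⟨mul_mem hx hy, n + m, ?_⟩
            have hc : Commute x y := hab x hx y hy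
            rw [hc.mul_pow, pow_add, pow_mul, hxn, one_pow, mul_comm (t ^ n), pow_mul, hym, one_pow, one_mul]
          inv_mem' := by
            rintro x ⟨hx, n, hxn⟩
            exact ⟨inv_mem hx, n, by rw [inv_pow, hxn, inv_one]⟩ }
      have hR : R ≤ T₀ := by
        refine h5 t ht ht2 hts htp R ?_ ?_
        · rintro ⟨x, hx, n, hxn⟩
          exact ⟨n, Subtype.ext hxn⟩
        · rintro y hy x ⟨hx, n, hxn⟩
          exact ⟨(mem_normalizer_iff.1 (hn hy) x).1 hx, n, by rw [conj_pow, hxn, mul_one, mul_inv_cancel]⟩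
      obtain ⟨P⟩ : Nonempty (Sylow t A) := inferInstance
      have hP : (P : Subgroup A) ≤ T₀.subgroupOf A := by
        intro x hx
        obtain ⟨n, hn⟩ := P.isPGroup' ⟨x, hx⟩
        exact hR ⟨x.2, n, congrArg (fun z : P => ((z : A) : G)) hn⟩
      exact P.not_dvd_index (hdvd.trans (Subgroup.index_dvd_of_le hP))
    rw [Subgroup.index_eq_one, Subgroup.subgroupOf_eq_top] at h6
    exact h6
  exact h1 b (h2 hb) a (hAT ha)

section Emb

variable {D : ChevalleyDatum} {l : ℕ} {M : CoxeterMatrix (Fin l)} {hp : IsType D l M}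
  {k : Type u} [Field k] [IsAlgClosed k] {r e : ℕ} [Fact r.Prime] [CharP k r]
  {G : Type v} [Group G] {κ : G →* ↥(D.group k)} {τ : MulAut ↥(D.group k)}
  {θ : (Fin l → ℤ) ≃+ (Fin l → ℤ)}

theorem toral_emb [Finite G] (hk : LocFin k) (h : Emb hp r e κ τ θ) {s : ℕ} (hs : s.Prime) (hs2 : s ≠ 2) {ζ : k}
    (hζ : IsPrimitiveRoot ζ s) {ι : Type*} {ex : ι → ℕ → ℤ} {g : ℕ → ℕ} (K : ChkS D s ex g) (O : Ort D g)
    (h0 : 0 < D.nroots) (a : ι → G) (ha : ∀ j, a j ∈ TG κ)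
    (hax : ∀ j b, b < D.nroots → cX hp (κ (a j)) (vec D l b) = ζ ^ ex j b) : ToralB s r G := by
  have has : ∀ j, a j ^ s = 1 := by
    intro j
    apply h.inj
    have hj : κ (a j) ∈ TT D k := ha j
    rw [map_pow κ (a j) s, map_one]
    refine cX_inj hp (pow_mem hj s) (one_mem _) fun i => ?_
    rw [cX_pow hp hj, cX_one, ← vec_simple hp i, hax j _ (simple_lt hp.inList (lt_rank hp i)), ← zpow_natCast,
      ← zpow_mul, mul_comm, zpow_mul, zpow_natCast, hζ.pow_eq_one, one_zpow]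
  refine ⟨TG κ, TY κ h.inj hp s, fun x hx y hy => ?_, fun x hx => hx.1, ?_, ?_, ?_⟩
  · apply h.inj
    rw [map_mul, map_mul]
    exact TT_comm hp _ hx _ hy
  · intro hbot
    obtain ⟨j, hj⟩ := K.ne 0 h0
    have h1 : a j ∈ TY κ h.inj hp s := ⟨ha j, has j⟩
    rw [hbot, mem_bot] at h1
    have h2 := hax j 0 h0
    rw [h1, map_one, cX_one] at h2
    have h3 := zpow_prim hs hζ (h2.symm.trans (zpow_zero ζ).symm)
    rw [sub_zero] at h3
    exact hj h3
  · rintro ⟨x, hx, hx1⟩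
    exact ⟨1, Subtype.ext (by rw [pow_one]; exact hx1)⟩
  · intro t ht ht2 hts htr R hR hRn x hx
    refine torA hp r hk hs hs2 hζ K O h0 κ h.inj (Y := TY κ h.inj hp s) (fun y hy => hy.1) (fun y hy => hy.2) a
      (fun j => ⟨ha j, has j⟩) (fun j b hb => ?_) ht ht2 hts htr hR hRn x hx
    rw [← cX_vec hp (ha j) hb]
    exact hax j b hb

theorem toral_full [Finite G] (hk : LocFin k) (h : Emb hp r e κ τ θ) {d : ℕ} {Bi : Fin l → Fin l → ℤ}
    (hB : InvC D l d Bi) (hd : d ≠ 0) {ε : ℤ} (hθ : ∀ x, θ x = ε • x)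
    (hcm : ∀ a b, τ a = a → τ b = b → ∃ x, κ x = a * b * a⁻¹ * b⁻¹) {s : ℕ} [hs : Fact s.Prime] (hs2 : s ≠ 2)
    (hsr : s ≠ r) (hq : (s : ℤ) ∣ (r : ℤ) ^ e - ε) {g : ℕ → ℕ}
    (K : ChkS D s (fun (j : Fin l) b => pairing (cartanOf D l) j (vec D l b)) g) (O : Ort D g)
    (h0 : 0 < D.nroots) : ToralB s r G := by
  obtain ⟨ζ, hζ⟩ := exists_zeta_pow (k := k) (r := r) (s := s) (a := 1) hsr
  rw [pow_one] at hζ
  have h1 := fun j => exists_cor_simple h hB hd hθ hcm hζ.pow_eq_one hs.out.ne_zero hq hk j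
  choose a ha hax using h1
  exact toral_emb hk h hs.out hs2 hζ K O h0 a ha (fun j b _ => hax j _)

theorem toral_fun [Finite G] (hk : LocFin k) (h : Emb hp r e κ τ θ) {d : ℕ} {Bi : Fin l → Fin l → ℤ}
    (hB : InvC D l d Bi) (hd : d ≠ 0) (hmem : ∀ y, τ y = y → ∃ x, κ x = y) {s : ℕ} [hs : Fact s.Prime] (hs2 : s ≠ 2)
    (hsr : s ≠ r) {m : ℕ} (Nf : Fin m → Fin l → ℤ)
    (hN : ∀ j x, (s : ℤ) ∣ (∑ i, Nf j i * (θ x) i) - (r : ℤ) ^ e * ∑ i, Nf j i * x i) {g : ℕ → ℕ}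
    (K : ChkS D s (fun j b => ∑ i, Nf j i * vec D l b i) g) (O : Ort D g)
    (h0 : 0 < D.nroots) : ToralB s r G := by
  obtain ⟨ζ, hζ⟩ := exists_zeta_pow (k := k) (r := r) (s := s) (a := 1) hsr
  rw [pow_one] at hζ
  have hNz : NeZero s := ⟨hs.out.ne_zero⟩
  have h1 : ∀ j, ∃ a ∈ TG κ, ∀ x, cX hp (κ a) x = ζ ^ (∑ i, Nf j i * x i) := by
    intro j
    let c : (Fin l → ℤ) →+ ZMod s :=
      { toFun := fun x => ((∑ i, Nf j i * x i : ℤ) : ZMod s)
        map_zero' := by simp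
        map_add' := fun x z => by
          rw [← Int.cast_add, ← Finset.sum_add_distrib]
          congr 1
          exact Finset.sum_congr rfl fun i _ => by rw [Pi.add_apply, mul_add] }
    obtain ⟨t, ht, hct, htN, hτt⟩ := exists_tor_fix hp hB hd h.frob h.fr hζ c (fun x => by
      show ((∑ i, Nf j i * (θ x) i : ℤ) : ZMod s) = ((r ^ e : ℕ) : ZMod s) * ((∑ i, Nf j i * x i : ℤ) : ZMod s)
      have h3 := (ZMod.intCast_zmod_eq_zero_iff_dvd _ _).2 (hN j x)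
      push_cast at h3 ⊢
      exact sub_eq_zero.1 h3)
    obtain ⟨x, rfl⟩ := hmem t hτt
    refine ⟨x, ht, fun z => ?_⟩
    rw [hct]
    exact (zpow_eq_pow_val hζ _)
  choose a ha hax using h1
  exact toral_emb hk h hs.out hs2 hζ K O h0 a ha (fun j b _ => hax j _)

theorem toral_untw (hp : IsType D l M) {F : Type u} [Field F] [Fintype F] (X : Dat D l) {s : ℕ} [hs : Fact s.Prime]
    (hs2 : s ≠ 2) (hsF : (s : F) ≠ 0) (w : M.Group) {ε : ℤ}
    (hε : ∀ x, rep M.toCoxeterSystem hp.isCartan w x = ε • x) (hq : (s : ℤ) ∣ (Fintype.card F : ℤ) - ε)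
    {g : ℕ → ℕ} (K : ChkS D s (fun (j : Fin l) b => pairing (cartanOf D l) j (vec D l b)) g) (O : Ort D g)
    (h0 : 0 < D.nroots) {p : ℕ} [CharP F p] : ToralB s p ↥(D.group F) := by
  obtain ⟨r, e, hr, hrF, hrk, he, hqF, hk⟩ := Cfsg.Agent.H129.TorusUntw.exists_closure (F := F) rfl
  have hrp : p = r := CharP.eq F ‹_› hrF
  subst hrp
  have hsr : s ≠ p := by
    rintro rfl
    exact hsF (CharP.cast_eq_zero F s)
  have hGf : Finite ↥(D.group F) := inferInstance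
  have hset := setup_untw' hp X hk he hqF
  obtain ⟨κ, τ, z, hEm, hκ, hb⟩ := exists_emb (hp := hp) hk hset.1 he hset.2.1 hset.2.2.1 hset.2.2.2.1
    hset.2.2.2.2.1 w
  have hθ : ∀ x, ((AddEquiv.refl (Fin l → ℤ)).trans (repAut M.toCoxeterSystem hp.isCartan w)) x = ε • x := hε
  have hcm' := fun a b => comm_of_comm (κ := κ) (τ := τ) hκ hb hset.2.2.2.2.2 a b
  refine toral_full hk hEm X.hB X.hd0 hθ hcm' hs2 hsr ?_ K O h0
  rw [hqF] at hq
  push_cast at hq ⊢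
  exact hq

end Emb

section Untw

variable {F : Type u} [Field F] [Fintype F] {p : ℕ} [CharP F p]

/-- `F₄(q)`, `s = 3` -/
theorem toral_f4_three (h3F : (3 : F) ≠ 0) : ToralB 3 p ↥(chevF4.group F) := by
  have : Fact (Nat.Prime 3) := ⟨Nat.prime_three⟩
  obtain ⟨ε, hε, hq⟩ := exists_eps _ (three_cases h3F)
  obtain ⟨w, hw⟩ := exists_w f4T negF4 hε
  exact toral_untw f4T datF4 (s := 3) (by norm_num) (by exact_mod_cast h3F) w hw hq chkSF4_three ortF4
    (by decide +kernel)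

/-- `F₄(q)`, `s = 5`, `5 ∣ q² - 1` -/
theorem toral_f4_five (h5F : (5 : F) ≠ 0)
    (hq : (5 : ℤ) ∣ (Fintype.card F : ℤ) - 1 ∨ (5 : ℤ) ∣ (Fintype.card F : ℤ) - (-1 : ℤ)) :
    ToralB 5 p ↥(chevF4.group F) := by
  have : Fact (Nat.Prime 5) := ⟨Nat.prime_five⟩
  obtain ⟨ε, hε, hq'⟩ := exists_eps (s := 5) _ hq
  obtain ⟨w, hw⟩ := exists_w f4T negF4 hε
  exact toral_untw f4T datF4 (s := 5) (by norm_num) (by exact_mod_cast h5F) w hw hq' chkSF4_five ortF4
    (by decide +kernel)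

/-- `E₇(q)`, `s = 3` -/
theorem toral_e7_three (h3F : (3 : F) ≠ 0) : ToralB 3 p ↥(chevE7.group F) := by
  have : Fact (Nat.Prime 3) := ⟨Nat.prime_three⟩
  obtain ⟨ε, hε, hq⟩ := exists_eps _ (three_cases h3F)
  obtain ⟨w, hw⟩ := exists_w e7T negE7 hε
  exact toral_untw e7T datE7 (s := 3) (by norm_num) (by exact_mod_cast h3F) w hw hq chkSE7_three ortE7
    (by decide +kernel)

/-- `E₈(q)`, `s = 3` -/
theorem toral_e8_three (h3F : (3 : F) ≠ 0) : ToralB 3 p ↥(chevE8.group F) := by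
  have : Fact (Nat.Prime 3) := ⟨Nat.prime_three⟩
  obtain ⟨ε, hε, hq⟩ := exists_eps _ (three_cases h3F)
  obtain ⟨w, hw⟩ := exists_w e8T negE8 hε
  exact toral_untw e8T datE8 (s := 3) (by norm_num) (by exact_mod_cast h3F) w hw hq chkSE8_three ortE8
    (by decide +kernel)

/-- `E₇(q)`, `s = 5`, `5 ∣ q² - 1` -/
theorem toral_e7_five (h5F : (5 : F) ≠ 0)
    (hq : (5 : ℤ) ∣ (Fintype.card F : ℤ) - 1 ∨ (5 : ℤ) ∣ (Fintype.card F : ℤ) - (-1 : ℤ)) :
    ToralB 5 p ↥(chevE7.group F) := by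
  have : Fact (Nat.Prime 5) := ⟨Nat.prime_five⟩
  obtain ⟨ε, hε, hq'⟩ := exists_eps (s := 5) _ hq
  obtain ⟨w, hw⟩ := exists_w e7T negE7 hε
  exact toral_untw e7T datE7 (s := 5) (by norm_num) (by exact_mod_cast h5F) w hw hq' chkSE7_five ortE7
    (by decide +kernel)

/-- `E₈(q)`, `s = 5`, `5 ∣ q² - 1` -/
theorem toral_e8_five (h5F : (5 : F) ≠ 0)
    (hq : (5 : ℤ) ∣ (Fintype.card F : ℤ) - 1 ∨ (5 : ℤ) ∣ (Fintype.card F : ℤ) - (-1 : ℤ)) :
    ToralB 5 p ↥(chevE8.group F) := by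
  have : Fact (Nat.Prime 5) := ⟨Nat.prime_five⟩
  obtain ⟨ε, hε, hq'⟩ := exists_eps (s := 5) _ hq
  obtain ⟨w, hw⟩ := exists_w e8T negE8 hε
  exact toral_untw e8T datE8 (s := 5) (by norm_num) (by exact_mod_cast h5F) w hw hq' chkSE8_five ortE8
    (by decide +kernel)

/-- `E₆(q)`, `s = 3`, `3 ∣ q - 1` -/
theorem toral_e6_three_one (h3F : (3 : F) ≠ 0) (hq3 : Fintype.card F % 3 = 1) : ToralB 3 p ↥(chevE6.group F) := by
  have : Fact (Nat.Prime 3) := ⟨Nat.prime_three⟩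
  have hq : ((3 : ℕ) : ℤ) ∣ (Fintype.card F : ℤ) - 1 := by omega
  exact toral_untw e6T datE6 (s := 3) (by norm_num) (by exact_mod_cast h3F) 1
    (fun x => by rw [map_one, Module.End.one_apply, one_smul]) hq chkSE6_three ortE6' (by decide +kernel)

/-- `E₆(q)`, `s = 3`, `3 ∣ q + 1` -/
theorem toral_e6_three_two (h3F : (3 : F) ≠ 0) (hq3 : Fintype.card F % 3 = 2) : ToralB 3 p ↥(chevE6.group F) := by
  have : Fact (Nat.Prime 3) := ⟨Nat.prime_three⟩
  have hGf : Finite ↥(chevE6.group F) := inferInstance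
  obtain ⟨r, n, hr, hrF, hrk, he, hqF, hk⟩ := Cfsg.Agent.H129.TorusUntw.exists_closure (F := F) rfl
  have hrp : p = r := CharP.eq F ‹_› hrF
  subst hrp
  have h3r : 3 ≠ p := by
    rintro rfl
    exact h3F (by exact_mod_cast CharP.cast_eq_zero F 3)
  have hroot : ∀ a : F, ∃ b : F, b ^ 3 = a := exists_root_of_coprime three_ne_zero (by
    refine Nat.Coprime.symm ((Nat.Prime.coprime_iff_not_dvd Nat.prime_three).2 fun h2 => ?_)
    omega)
  have hset := setup_untw_all hp6 hk (algebraMap F (AlgebraicClosure F)) he hqF invC_E6 three_ne_zero hroot 3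
  obtain ⟨κ, τ, z, hEm, hκ, hb⟩ := exists_emb (hp := hp6) hk hset.inj he hset.frob hset.fr hset.fix hset.fin
    Cfsg.Agent.H795.NotAbData.E6.c6
  have hθ : ∀ x, ((AddEquiv.refl (Fin 6 → ℤ)).trans (repAut CoxeterMatrix.E₆.toCoxeterSystem hp6.isCartan
      Cfsg.Agent.H795.NotAbData.E6.c6)) x = (-1 : ℤ) • H565.E6Lat.g x := by
    intro x
    have h1 := eps_of_mat (hp := hp6) (g := permE rho6) (w := Cfsg.Agent.H795.NotAbData.E6.c6)
      (U := Cfsg.Agent.H795.NotAbData.E6.c6M) (ε := -1) perm6_mat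
      (Cfsg.Agent.H795.NotAbData.E6.is_c6 hp6) (by decide +kernel) (H565.E6Lat.g x)
    have h2 : permE rho6 (H565.E6Lat.g x) = x := H565.E6Lat.g_g x
    rw [h2] at h1
    rw [H565.RowP1.refl_trans hp6, h1]
  refine toral_fun hk hEm invC_E6 three_ne_zero (fun y hy => ?_) (by norm_num) h3r NfE6 (fun j x => ?_) chkSgE6
    ortgE6 (by decide +kernel)
  · obtain ⟨x, hx⟩ := Cfsg.Agent.H129.TorusUntw.fix_range hp6 CoxeterMatrix.E₆.toCoxeterSystem
      (algebraMap F (AlgebraicClosure F)) hqF invC_E6 three_ne_zero hroot (hb y hy)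
    refine ⟨x, ?_⟩
    rw [hκ, hx]
    group
  · rw [hθ]
    have h1 : ∑ i, NfE6 j i * ((-1 : ℤ) • H565.E6Lat.g x) i = -∑ i, NfE6 j i * x i := by
      rw [← sum_gE6 j x, ← Finset.sum_neg_distrib]
      exact Finset.sum_congr rfl fun i _ => by
        show NfE6 j i * ((-1 : ℤ) • H565.E6Lat.g x i) = _
        rw [smul_eq_mul]; ring
    rw [h1]
    obtain ⟨c, hc⟩ : (3 : ℤ) ∣ (p : ℤ) ^ n + 1 := by
      have : ((p : ℤ) ^ n) = (Fintype.card F : ℤ) := by rw [hqF]; push_cast; rfl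
      rw [this]
      omega
    refine ⟨-c * ∑ i, NfE6 j i * x i, ?_⟩
    push_cast
    linear_combination (-∑ i, NfE6 j i * x i) * hc

/-- **`E₆(q)`, `s = 3`** -/
theorem toral_e6_three (h3F : (3 : F) ≠ 0) : ToralB 3 p ↥(chevE6.group F) := by
  have h4 := three_cases h3F
  by_cases h1 : Fintype.card F % 3 = 1
  · exact toral_e6_three_one h3F h1
  · exact toral_e6_three_two h3F (by omega)

/-- `E₈(q)`, `5 ∣ q² + 1` -/
theorem toral_e8_four (h5F : (5 : F) ≠ 0) (hq : 5 ∣ Fintype.card F ^ 2 + 1) : ToralB 5 p ↥(chevE8.group F) := by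
  have : Fact (Nat.Prime 5) := ⟨Nat.prime_five⟩
  have hGf : Finite ↥(chevE8.group F) := inferInstance
  obtain ⟨r, n, hr, hrF, hrk, he, hqF, hk⟩ := Cfsg.Agent.H129.TorusUntw.exists_closure (F := F) rfl
  have hrp : p = r := CharP.eq F ‹_› hrF
  subst hrp
  have h5r : 5 ≠ p := by
    rintro rfl
    exact h5F (by exact_mod_cast CharP.cast_eq_zero F 5)
  have hset := Cfsg.Agent.H795.NotAbRows.setup_untw_all (D := chevE8) (M := CoxeterMatrix.E₈) e8T hk
    (algebraMap F (AlgebraicClosure F)) he hqF invC_E8 one_ne_zero (fun b => ⟨b, pow_one b⟩) 5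
  obtain ⟨κ, τ, z, hEm, hκ, hb⟩ := exists_emb (hp := e8T) hk hset.inj he hset.frob hset.fr hset.fix hset.fin
    Cfsg.Agent.H795.NotAbData.E8.u5
  have hmem : ∀ y, τ y = y → ∃ x, κ x = y := by
    intro y hy
    obtain ⟨x, hx⟩ := Cfsg.Agent.H129.TorusUntw.fix_range e8T CoxeterMatrix.E₈.toCoxeterSystem
      (algebraMap F (AlgebraicClosure F)) hqF invC_E8 one_ne_zero (fun b => ⟨b, pow_one b⟩) (hb y hy)
    refine ⟨x, ?_⟩
    rw [hκ, hx]
    group
  have hθ : ∀ x, ((AddEquiv.refl (Fin 8 → ℤ)).trans (repAut CoxeterMatrix.E₈.toCoxeterSystem e8T.isCartan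
      Cfsg.Agent.H795.NotAbData.E8.u5)) x = th x := fun x => th_eq x
  have hqZ : (5 : ℤ) ∣ ((p : ℤ) ^ n) ^ 2 + 1 := by
    rw [hqF] at hq
    exact_mod_cast hq
  have key : ∀ q0 : ℤ, (5 : ℤ) ∣ (p : ℤ) ^ n - q0 → ∀ (j : Fin 4) (x : Fin 8 → ℤ),
      ((5 : ℕ) : ℤ) ∣ (∑ i, NfE8 q0 j i * (((AddEquiv.refl (Fin 8 → ℤ)).trans (repAut
        CoxeterMatrix.E₈.toCoxeterSystem e8T.isCartan Cfsg.Agent.H795.NotAbData.E8.u5)) x) i) -
        (p : ℤ) ^ n * ∑ i, NfE8 q0 j i * x i := by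
    rintro q0 ⟨c, hc⟩ j x
    rw [hθ, NfE8_eq, NfE8_eq, dot_cvec_th]
    obtain ⟨d, hd⟩ := hqZ
    generalize dot (cvec (fun i => if i = j then 1 else 0) q0) x = A
    generalize ∑ r, x r * ∑ i, (if i = j then (1 : ℤ) else 0) * gv i r = B
    have hpn : (p : ℤ) ^ n = q0 + 5 * c := by linear_combination hc
    rw [hpn] at hd ⊢
    refine ⟨-(c * A) - (d - 2 * q0 * c - 5 * c ^ 2) * B, ?_⟩
    push_cast
    linear_combination -B * hd
  have hcase : (5 : ℤ) ∣ (p : ℤ) ^ n - 2 ∨ (5 : ℤ) ∣ (p : ℤ) ^ n - 3 := by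
    generalize (p : ℤ) ^ n = a at hqZ
    have h0 : a % 5 = 0 ∨ a % 5 = 1 ∨ a % 5 = 2 ∨ a % 5 = 3 ∨ a % 5 = 4 := by omega
    have h2 : (a ^ 2 + 1) % 5 = 0 := Int.emod_eq_zero_of_dvd hqZ
    rw [pow_two, Int.add_emod, Int.mul_emod] at h2
    rcases h0 with h | h | h | h | h <;> rw [h] at h2 <;> first | (exfalso; revert h2; decide) | skip
    · left; omega
    · right; omega
  rcases hcase with h | h
  · exact toral_fun hk hEm invC_E8 one_ne_zero hmem (by norm_num) h5r (NfE8 2) (key 2 h) chkSE8_2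
      ortgE8 (by decide +kernel)
  · exact toral_fun hk hEm invC_E8 one_ne_zero hmem (by norm_num) h5r (NfE8 3) (key 3 h) chkSE8_3
      ortgE8 (by decide +kernel)

end Untw

section Tw

variable {K : Type u} [Field K] [Fintype K] {p : ℕ} [CharP K p] {q : ℕ} (hq : IsPrimePow q)

include hq

set_option maxRecDepth 100000 in
/-- `²E₆(q)`, `s = 3`, `3 ∣ q + 1` -/
theorem toral_2E6_three_two (h3F : (3 : K) ≠ 0) (hF : Fintype.card K = q ^ 2) (hq3 : q % 3 = 2) :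
    ToralB 3 p ↥(twistedE6 K q) := by
  have : Fact (Nat.Prime 3) := ⟨Nat.prime_three⟩
  have hG : Finite ↥(twistedE6 K q) := inferInstance
  obtain ⟨r, n, hr, hrF, hrk, hn0, hn, hk⟩ := Cfsg.Agent.H795.Tw.exists_closure_q two_ne_zero hq hF
  have hrp : p = r := CharP.eq K ‹_› hrF
  subst hrp
  have hpr : 3 ≠ p := by
    rintro rfl
    exact h3F (by exact_mod_cast CharP.cast_eq_zero K 3)
  have : Fact (Nat.Prime 5) := ⟨by norm_num⟩
  have hset := Cfsg.Agent.H795.Tw.setup_six (algebraMap K (AlgebraicClosure K)) p hk hn0 hn hF (p := 5) (by norm_num)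
  have hcm := comm_mem_of_split (TT_comm Cfsg.Agent.H720.TwFr.hp6) hset.norm hset.fix (fun y hy => by
      have hφ : ∀ t : AlgebraicClosure K, iterateFrobenius (AlgebraicClosure K) p n t = t ^ q :=
        fun t => by rw [iterateFrobenius_def, hn]
      obtain ⟨x, hx, t, ht, e⟩ := EmbInst.twE6_split (f := algebraMap K (AlgebraicClosure K)) hq hF hφ y.2
        (by rw [← Cfsg.Agent.H720.TwFr.coe_sig6, hy])
      exact ⟨⟨x, hx⟩, ⟨t, diagonal_le_group Cfsg.Agent.H720.TwFr.hp6.inList _ ht⟩, ht, Subtype.ext e⟩)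
  obtain ⟨κ, τ, z, hEm, hκ, hb⟩ := exists_emb (hp := hp6) hk hset.inj hn0 hset.frob hset.fr hset.fix hset.fin
    Cfsg.Agent.H795.NotAbData.E6.c6
  have hcm' := fun a b => comm_of_comm (κ := κ) (τ := τ) hκ hb hcm a b
  have hθ0 : ∀ x, rep CoxeterMatrix.E₆.toCoxeterSystem hp6.isCartan Cfsg.Agent.H795.NotAbData.E6.c6
      (permE rho6 x) = (-1 : ℤ) • x :=
    eps_of_mat (hp := Cfsg.Agent.H720.TwFr.hp6) (g := permE rho6) (w := Cfsg.Agent.H795.NotAbData.E6.c6)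
      (U := Cfsg.Agent.H795.NotAbData.E6.c6M) (ε := -1) perm6_mat
      (Cfsg.Agent.H795.NotAbData.E6.is_c6 Cfsg.Agent.H720.TwFr.hp6) (by decide +kernel)
  have hθ : ∀ x, ((permE rho6).trans (repAut CoxeterMatrix.E₆.toCoxeterSystem hp6.isCartan
      Cfsg.Agent.H795.NotAbData.E6.c6)) x = (-1 : ℤ) • x := hθ0
  refine toral_full hk hEm datE6.hB datE6.hd0 hθ hcm' (by norm_num) hpr ?_ chkSE6_three ortE6' (by decide +kernel)
  have h1 : ((p : ℤ) ^ n) = (q : ℤ) := by rw [hn]; push_cast; rfl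
  rw [h1]
  push_cast
  omega

/-- `²E₆(q)`, `s = 3`, `3 ∣ q - 1` -/
theorem toral_2E6_three_one (h3F : (3 : K) ≠ 0) (hF : Fintype.card K = q ^ 2) (hq3 : q % 3 = 1) :
    ToralB 3 p ↥(twistedE6 K q) := by
  have : Fact (Nat.Prime 3) := ⟨Nat.prime_three⟩
  have hG : Finite ↥(twistedE6 K q) := inferInstance
  obtain ⟨r, n, hr, hrF, hrk, hn0, hn, hk⟩ := Cfsg.Agent.H795.Tw.exists_closure_q two_ne_zero hq hF
  have hrp : p = r := CharP.eq K ‹_› hrF
  subst hrp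
  have hpr : 3 ≠ p := by
    rintro rfl
    exact h3F (by exact_mod_cast CharP.cast_eq_zero K 3)
  have : Fact (Nat.Prime 5) := ⟨by norm_num⟩
  have hset := Cfsg.Agent.H795.Tw.setup_six (algebraMap K (AlgebraicClosure K)) p hk hn0 hn hF (p := 5) (by norm_num)
  obtain ⟨κ, τ, z, hEm, hκ, hb⟩ := exists_emb (hp := hp6) hk hset.inj hn0 hset.frob hset.fr hset.fix hset.fin 1
  have hθ : ∀ x, ((permE rho6).trans (repAut CoxeterMatrix.E₆.toCoxeterSystem hp6.isCartan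
      (1 : CoxeterMatrix.E₆.Group))) x = H565.E6Lat.g x := by
    intro x
    show rep CoxeterMatrix.E₆.toCoxeterSystem hp6.isCartan 1 (permE rho6 x) = H565.E6Lat.g x
    rw [map_one, Module.End.one_apply]
  refine toral_fun hk hEm invC_E6 three_ne_zero (fun y hy => ?_) (by norm_num) hpr NfE6 (fun j x => ?_) chkSgE6
    ortgE6 (by decide +kernel)
  · have h1 := desc6 (algebraMap K (AlgebraicClosure K)) p hk hn0 hn hF (hb y hy)
    have h2 : Nat.gcd 3 (q + 1) = 1 := by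
      refine (Nat.Prime.coprime_iff_not_dvd Nat.prime_three).2 fun h5 => ?_
      omega
    rw [h2, pow_one] at h1
    obtain ⟨x, hx⟩ := h1
    refine ⟨x, ?_⟩
    rw [hκ, hx]
    group
  · rw [hθ, sum_gE6]
    obtain ⟨c, hc⟩ : (3 : ℤ) ∣ (p : ℤ) ^ n - 1 := by
      have : ((p : ℤ) ^ n) = (q : ℤ) := by rw [hn]; push_cast; rfl
      rw [this]
      omega
    refine ⟨-c * ∑ i, NfE6 j i * x i, ?_⟩
    push_cast
    linear_combination (-∑ i, NfE6 j i * x i) * hc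

/-- **`²E₆(q)`, `s = 3`** -/
theorem toral_2E6_three (h3F : (3 : K) ≠ 0) (hF : Fintype.card K = q ^ 2) : ToralB 3 p ↥(twistedE6 K q) := by
  have h4 := three_cases h3F
  have h0 : q % 3 ≠ 0 := by
    intro h0
    have h5 : 3 ∣ q := Nat.dvd_of_mod_eq_zero h0
    have h6 : 3 ∣ Fintype.card K := by rw [hF]; exact dvd_pow h5 two_ne_zero
    omega
  by_cases h1 : q % 3 = 2
  · exact toral_2E6_three_two hq h3F hF h1
  · exact toral_2E6_three_one hq h3F hF (by omega)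

end Tw

end Cfsg.Agent.H167.RM
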