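import Cfsg.Agent.H167.RM.Tor
import Cfsg.Agent.H167.RV.ChkSb

/-!
# S3849: `ToralB 5` for `E6`, `2E6`, `5 ∣ q² - 1`; `ToralB 7` for `E7`, `E8`, `7 ∣ q² - 1` (helper167)
-/

set_option autoImplicit false
set_option linter.unusedSectionVars false

namespace Cfsg.Agent.H167.RM

open CoxeterSystem Cfsg Cfsg.Lie Cfsg.Lie.ChevalleyDatum
open Cfsg.Agent.ChevalleyStructure Cfsg.Agent.ChevalleyStructure.Elts Cfsg.Agent.ChevalleyStructure.CoxeterGeom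
  Cfsg.Agent.ChevalleyStructure.CoxeterGeomTypes Cfsg.Agent.ChevalleyStructure.NPerm
open Cfsg.Agent.Tits.Roots Cfsg.Agent.Tits.Core Cfsg.Agent.Nodes Cfsg.Agent.Nodes.Reps Cfsg.Agent.Nodes.BNOf
  Cfsg.Agent.Nodes.RGDChev Cfsg.Agent.Nodes.Bruhat
open Cfsg.Agent.KFacts.RgdField Cfsg.Agent.KFacts.RgdChevCoord Cfsg.Agent.BpExc.TorCent Cfsg.Agent.BpExc.TorChev
open Cfsg.Agent.GpExc.Field Cfsg.Agent.BpExc.Tow Cfsg.Agent.BpExc.TowChev Cfsg.Agent.BpExc.Fr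
  Cfsg.Agent.BpExc.LangFr Cfsg.Agent.H129.TorusChar Cfsg.Agent.H129.TorusMain Cfsg.Agent.H123.ExcZ
open Cfsg.Agent.BpExc Cfsg.Agent.H795.LangT Cfsg.Agent.H795.Core Cfsg.Agent.H795.NotAbT
open Cfsg.Agent.H572.ExcA Cfsg.Agent.H572.ExcB Cfsg.Agent.H572.ExcC Cfsg.Agent.H572.ExcD Cfsg.Agent.H572.LatQ
  Cfsg.Agent.H572.LatForm Cfsg.Agent.H572.ExcE Cfsg.Agent.H572.ExcF
open Cfsg.Agent.H565.CharCnt Cfsg.Agent.H167.RV Cfsg.Agent.H795.Untw
open Cfsg.Agent.BpExc.RowsUntw Cfsg.Agent.H720.TwFr Cfsg.Agent.H795.NotAbRows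
open Subgroup

universe u v

section Emb

variable {D : ChevalleyDatum} {l : ℕ} {M : CoxeterMatrix (Fin l)} {hp : IsType D l M}
  {k : Type u} [Field k] [IsAlgClosed k] {r e : ℕ} [Fact r.Prime] [CharP k r]
  {G : Type v} [Group G] {κ : G →* ↥(D.group k)} {τ : MulAut ↥(D.group k)}
  {θ : (Fin l → ℤ) ≃+ (Fin l → ℤ)}

/-- `toral_fun` where only the fixed points of order `s` are known to lie in `G` -/
theorem toral_fun' [Finite G] (hk : LocFin k) (h : Emb hp r e κ τ θ) {d : ℕ} {Bi : Fin l → Fin l → ℤ}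
    (hB : InvC D l d Bi) (hd : d ≠ 0) {s : ℕ} (hmem : ∀ y, τ y = y → y ^ s = 1 → ∃ x, κ x = y) [hs : Fact s.Prime]
    (hs2 : s ≠ 2) (hsr : s ≠ r) {m : ℕ} (Nf : Fin m → Fin l → ℤ)
    (hN : ∀ j x, (s : ℤ) ∣ (∑ i, Nf j i * (θ x) i) - (r : ℤ) ^ e * ∑ i, Nf j i * x i) {g : ℕ → ℕ}
    (K : ChkS D s (fun j b => ∑ i, Nf j i * vec D l b i) g) (O : Ort D g)
    (h0 : 0 < D.nroots) : ToralB s r G := by
  obtain ⟨ζ, hζ⟩ := exists_zeta_pow (k := k) (r := r) (s := s) (a := 1) hsr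
  rw [pow_one] at hζ
  have hNz : NeZero s := ⟨hs.out.ne_zero⟩
  have h1 : ∀ j, ∃ a ∈ TG κ, ∀ x, cX hp (κ a) x = ζ ^ (∑ i, Nf j i * x i) := by
    intro j
    let c : (Fin l → ℤ) →+ ZMod s :=
      { toFun := fun x => ((∑ i, Nf j i * x i : ℤ) : ZMod s)
        map_zero' := by simp
        map_add' := fun x z => by
          rw [← Int.cast_add, ← Finset.sum_add_distrib]
          congr 1
          exact Finset.sum_congr rfl fun i _ => by rw [Pi.add_apply, mul_add] }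
    obtain ⟨t, ht, hct, htN, hτt⟩ := exists_tor_fix hp hB hd h.frob h.fr hζ c (fun x => by
      show ((∑ i, Nf j i * (θ x) i : ℤ) : ZMod s) = ((r ^ e : ℕ) : ZMod s) * ((∑ i, Nf j i * x i : ℤ) : ZMod s)
      have h3 := (ZMod.intCast_zmod_eq_zero_iff_dvd _ _).2 (hN j x)
      push_cast at h3 ⊢
      exact sub_eq_zero.1 h3)
    obtain ⟨x, rfl⟩ := hmem t hτt htN
    refine ⟨x, ht, fun z => ?_⟩
    rw [hct]
    exact (zpow_eq_pow_val hζ _)
  choose a ha hax using h1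
  exact toral_emb hk h hs.out hs2 hζ K O h0 a ha (fun j b _ => hax j _)

/-- membership of fixed points of order `s`, after conjugation -/
theorem mem_of_setup {f : G →* ↥(D.group k)} {σ : MulAut ↥(D.group k)} {g : (Fin l → ℤ) ≃+ (Fin l → ℤ)} {p : ℕ}
    (hset : Setup hp p r e f σ g) {z : ↥(D.group k)} (hκ : ∀ x, κ x = z⁻¹ * f x * z)
    (hb : ∀ y, τ y = y → σ (z * y * z⁻¹) = z * y * z⁻¹) : ∀ y, τ y = y → y ^ p = 1 → ∃ x, κ x = y := by
  intro y hy hy1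
  obtain ⟨x, hx⟩ := hset.p_mem _ (hb y hy) ⟨1, by rw [pow_one, conj_pow, hy1, mul_one, mul_inv_cancel]⟩
  refine ⟨x, ?_⟩
  rw [hκ, hx]
  group

end Emb

section Untw

variable {F : Type u} [Field F] [Fintype F] {p : ℕ} [CharP F p]

/-- `E₇(q)`, `s = 7`, `7 ∣ q² - 1` -/
theorem toral_e7_seven (h7F : (7 : F) ≠ 0)
    (hq : (7 : ℤ) ∣ (Fintype.card F : ℤ) - 1 ∨ (7 : ℤ) ∣ (Fintype.card F : ℤ) - (-1 : ℤ)) :
    ToralB 7 p ↥(chevE7.group F) := by
  have : Fact (Nat.Prime 7) := ⟨by norm_num⟩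
  obtain ⟨ε, hε, hq'⟩ := exists_eps (s := 7) _ hq
  obtain ⟨w, hw⟩ := exists_w e7T negE7 hε
  exact toral_untw e7T datE7 (s := 7) (by norm_num) (by exact_mod_cast h7F) w hw hq' chkSE7_seven ortE7
    (by decide +kernel)

/-- `E₈(q)`, `s = 7`, `7 ∣ q² - 1` -/
theorem toral_e8_seven (h7F : (7 : F) ≠ 0)
    (hq : (7 : ℤ) ∣ (Fintype.card F : ℤ) - 1 ∨ (7 : ℤ) ∣ (Fintype.card F : ℤ) - (-1 : ℤ)) :
    ToralB 7 p ↥(chevE8.group F) := by
  have : Fact (Nat.Prime 7) := ⟨by norm_num⟩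
  obtain ⟨ε, hε, hq'⟩ := exists_eps (s := 7) _ hq
  obtain ⟨w, hw⟩ := exists_w e8T negE8 hε
  exact toral_untw e8T datE8 (s := 7) (by norm_num) (by exact_mod_cast h7F) w hw hq' chkSE8_seven ortE8
    (by decide +kernel)

/-- `E₆(q)`, `s = 5`, `5 ∣ q - 1` -/
theorem toral_e6_five_one (h5F : (5 : F) ≠ 0) (hq : (5 : ℤ) ∣ (Fintype.card F : ℤ) - 1) :
    ToralB 5 p ↥(chevE6.group F) := by
  have : Fact (Nat.Prime 5) := ⟨Nat.prime_five⟩
  exact toral_untw e6T datE6 (s := 5) (by norm_num) (by exact_mod_cast h5F) 1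
    (fun x => by rw [map_one, Module.End.one_apply, one_smul]) hq chkSE6_five ortE6' (by decide +kernel)

/-- `E₆(q)`, `s = 5`, `5 ∣ q + 1` -/
theorem toral_e6_five_two (h5F : (5 : F) ≠ 0) (hq : (5 : ℤ) ∣ (Fintype.card F : ℤ) - (-1)) :
    ToralB 5 p ↥(chevE6.group F) := by
  have : Fact (Nat.Prime 5) := ⟨Nat.prime_five⟩
  have hGf : Finite ↥(chevE6.group F) := inferInstance
  obtain ⟨r, n, hr, hrF, hrk, he, hqF, hk⟩ := Cfsg.Agent.H129.TorusUntw.exists_closure (F := F) rfl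
  have hrp : p = r := CharP.eq F ‹_› hrF
  subst hrp
  have h5r : 5 ≠ p := by
    rintro rfl
    exact h5F (by exact_mod_cast CharP.cast_eq_zero F 5)
  have hset := setup_untw hp6 (p := 5) hk (algebraMap F (AlgebraicClosure F)) he hqF invC_E6 three_ne_zero
    (Or.inr Nat.prime_three) (by norm_num)
  obtain ⟨κ, τ, z, hEm, hκ, hb⟩ := exists_emb (hp := hp6) hk hset.inj he hset.frob hset.fr hset.fix hset.fin
    Cfsg.Agent.H795.NotAbData.E6.c6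
  have hθ : ∀ x, ((AddEquiv.refl (Fin 6 → ℤ)).trans (repAut CoxeterMatrix.E₆.toCoxeterSystem hp6.isCartan
      Cfsg.Agent.H795.NotAbData.E6.c6)) x = (-1 : ℤ) • H565.E6Lat.g x := by
    intro x
    have h1 := eps_of_mat (hp := hp6) (g := permE rho6) (w := Cfsg.Agent.H795.NotAbData.E6.c6)
      (U := Cfsg.Agent.H795.NotAbData.E6.c6M) (ε := -1) perm6_mat
      (Cfsg.Agent.H795.NotAbData.E6.is_c6 hp6) (by decide +kernel) (H565.E6Lat.g x)
    have h2 : permE rho6 (H565.E6Lat.g x) = x := H565.E6Lat.g_g x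
    rw [h2] at h1
    rw [H565.RowP1.refl_trans hp6, h1]
  refine toral_fun' hk hEm invC_E6 three_ne_zero (mem_of_setup hset hκ hb) (by norm_num) h5r NfE6 (fun j x => ?_)
    chkSgE6_five ortgE6 (by decide +kernel)
  rw [hθ]
  have h1 : ∑ i, NfE6 j i * ((-1 : ℤ) • H565.E6Lat.g x) i = -∑ i, NfE6 j i * x i := by
    rw [← sum_gE6 j x, ← Finset.sum_neg_distrib]
    exact Finset.sum_congr rfl fun i _ => by
      show NfE6 j i * ((-1 : ℤ) • H565.E6Lat.g x i) = _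
      rw [smul_eq_mul]; ring
  rw [h1]
  obtain ⟨c, hc⟩ : (5 : ℤ) ∣ (p : ℤ) ^ n + 1 := by
    have : ((p : ℤ) ^ n) = (Fintype.card F : ℤ) := by rw [hqF]; push_cast; rfl
    rw [this]
    omega
  refine ⟨-c * ∑ i, NfE6 j i * x i, ?_⟩
  push_cast
  linear_combination (-∑ i, NfE6 j i * x i) * hc

/-- **`E₆(q)`, `s = 5`, `5 ∣ q² - 1`** -/
theorem toral_e6_five (h5F : (5 : F) ≠ 0)
    (hq : (5 : ℤ) ∣ (Fintype.card F : ℤ) - 1 ∨ (5 : ℤ) ∣ (Fintype.card F : ℤ) - (-1 : ℤ)) :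
    ToralB 5 p ↥(chevE6.group F) := by
  rcases hq with hq | hq
  · exact toral_e6_five_one h5F hq
  · exact toral_e6_five_two h5F hq

end Untw

section Tw

variable {K : Type u} [Field K] [Fintype K] {p : ℕ} [CharP K p] {q : ℕ} (hq : IsPrimePow q)

include hq

set_option maxRecDepth 100000 in
/-- `²E₆(q)`, `s = 5`, `5 ∣ q + 1` -/
theorem toral_2E6_five_two (h5F : (5 : K) ≠ 0) (hF : Fintype.card K = q ^ 2) (hq5 : (5 : ℤ) ∣ (q : ℤ) - (-1)) :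
    ToralB 5 p ↥(twistedE6 K q) := by
  have hG : Finite ↥(twistedE6 K q) := inferInstance
  obtain ⟨r, n, hr, hrF, hrk, hn0, hn, hk⟩ := Cfsg.Agent.H795.Tw.exists_closure_q two_ne_zero hq hF
  have hrp : p = r := CharP.eq K ‹_› hrF
  subst hrp
  have hpr : 5 ≠ p := by
    rintro rfl
    exact h5F (by exact_mod_cast CharP.cast_eq_zero K 5)
  have : Fact (Nat.Prime 5) := ⟨by norm_num⟩
  have hset := Cfsg.Agent.H795.Tw.setup_six (algebraMap K (AlgebraicClosure K)) p hk hn0 hn hF (p := 5) (by norm_num)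
  have hcm := comm_mem_of_split (TT_comm Cfsg.Agent.H720.TwFr.hp6) hset.norm hset.fix (fun y hy => by
      have hφ : ∀ t : AlgebraicClosure K, iterateFrobenius (AlgebraicClosure K) p n t = t ^ q :=
        fun t => by rw [iterateFrobenius_def, hn]
      obtain ⟨x, hx, t, ht, e⟩ := EmbInst.twE6_split (f := algebraMap K (AlgebraicClosure K)) hq hF hφ y.2
        (by rw [← Cfsg.Agent.H720.TwFr.coe_sig6, hy])
      exact ⟨⟨x, hx⟩, ⟨t, diagonal_le_group Cfsg.Agent.H720.TwFr.hp6.inList _ ht⟩, ht, Subtype.ext e⟩)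
  obtain ⟨κ, τ, z, hEm, hκ, hb⟩ := exists_emb (hp := hp6) hk hset.inj hn0 hset.frob hset.fr hset.fix hset.fin
    Cfsg.Agent.H795.NotAbData.E6.c6
  have hcm' := fun a b => comm_of_comm (κ := κ) (τ := τ) hκ hb hcm a b
  have hθ0 : ∀ x, rep CoxeterMatrix.E₆.toCoxeterSystem hp6.isCartan Cfsg.Agent.H795.NotAbData.E6.c6
      (permE rho6 x) = (-1 : ℤ) • x :=
    eps_of_mat (hp := Cfsg.Agent.H720.TwFr.hp6) (g := permE rho6) (w := Cfsg.Agent.H795.NotAbData.E6.c6)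
      (U := Cfsg.Agent.H795.NotAbData.E6.c6M) (ε := -1) perm6_mat
      (Cfsg.Agent.H795.NotAbData.E6.is_c6 Cfsg.Agent.H720.TwFr.hp6) (by decide +kernel)
  have hθ : ∀ x, ((permE rho6).trans (repAut CoxeterMatrix.E₆.toCoxeterSystem hp6.isCartan
      Cfsg.Agent.H795.NotAbData.E6.c6)) x = (-1 : ℤ) • x := hθ0
  refine toral_full hk hEm datE6.hB datE6.hd0 hθ hcm' (by norm_num) hpr ?_ chkSE6_five ortE6' (by decide +kernel)
  have h1 : ((p : ℤ) ^ n) = (q : ℤ) := by rw [hn]; push_cast; rfl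
  rw [h1]
  push_cast
  exact hq5

/-- `²E₆(q)`, `s = 5`, `5 ∣ q - 1` -/
theorem toral_2E6_five_one (h5F : (5 : K) ≠ 0) (hF : Fintype.card K = q ^ 2) (hq5 : (5 : ℤ) ∣ (q : ℤ) - 1) :
    ToralB 5 p ↥(twistedE6 K q) := by
  have hG : Finite ↥(twistedE6 K q) := inferInstance
  obtain ⟨r, n, hr, hrF, hrk, hn0, hn, hk⟩ := Cfsg.Agent.H795.Tw.exists_closure_q two_ne_zero hq hF
  have hrp : p = r := CharP.eq K ‹_› hrF
  subst hrp
  have hpr : 5 ≠ p := by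
    rintro rfl
    exact h5F (by exact_mod_cast CharP.cast_eq_zero K 5)
  have : Fact (Nat.Prime 5) := ⟨by norm_num⟩
  have hset := Cfsg.Agent.H795.Tw.setup_six (algebraMap K (AlgebraicClosure K)) p hk hn0 hn hF (p := 5) (by norm_num)
  obtain ⟨κ, τ, z, hEm, hκ, hb⟩ := exists_emb (hp := hp6) hk hset.inj hn0 hset.frob hset.fr hset.fix hset.fin 1
  have hθ : ∀ x, ((permE rho6).trans (repAut CoxeterMatrix.E₆.toCoxeterSystem hp6.isCartan
      (1 : CoxeterMatrix.E₆.Group))) x = H565.E6Lat.g x := by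
    intro x
    show rep CoxeterMatrix.E₆.toCoxeterSystem hp6.isCartan 1 (permE rho6 x) = H565.E6Lat.g x
    rw [map_one, Module.End.one_apply]
  refine toral_fun' hk hEm invC_E6 three_ne_zero (mem_of_setup hset hκ hb) (by norm_num) hpr NfE6 (fun j x => ?_)
    chkSgE6_five ortgE6 (by decide +kernel)
  rw [hθ, sum_gE6]
  obtain ⟨c, hc⟩ : (5 : ℤ) ∣ (p : ℤ) ^ n - 1 := by
    have : ((p : ℤ) ^ n) = (q : ℤ) := by rw [hn]; push_cast; rfl
    rw [this]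
    exact hq5
  refine ⟨-c * ∑ i, NfE6 j i * x i, ?_⟩
  push_cast
  linear_combination (-∑ i, NfE6 j i * x i) * hc

/-- **`²E₆(q)`, `s = 5`, `5 ∣ q² - 1`** -/
theorem toral_2E6_five (h5F : (5 : K) ≠ 0) (hF : Fintype.card K = q ^ 2)
    (hq5 : (5 : ℤ) ∣ (q : ℤ) - 1 ∨ (5 : ℤ) ∣ (q : ℤ) - (-1 : ℤ)) : ToralB 5 p ↥(twistedE6 K q) := by
  rcases hq5 with h | h
  · exact toral_2E6_five_one hq h5F hF h
  · exact toral_2E6_five_two hq h5F hF h

end Tw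

end Cfsg.Agent.H167.RM
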